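import Mathlib
import Groth.Prelude.Def_W4stkfunctorsequivSib

set_option linter.unusedSectionVars false
set_option linter.unusedVariables false
set_option linter.unusedSimpArgs false
set_option autoImplicit false
set_option linter.style.haveILetI false
set_option maxHeartbeats 400000

universe w v u v' u'

noncomputable section

namespace Groth.Agent.Helper6.Sib

open CategoryTheory CategoryTheory.Limits DerivedCategory

variable {A : Type u} [Category.{v} A] [Abelian A] [HasDerivedCategory.{w} A]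

variable (A) in
/-- `singleB` followed by the inclusion is the single functor -/
def sBι : DEquiv.singleB A ⋙ (TStructure.t (C := A)).bounded.ι ≅
    DerivedCategory.singleFunctor A 0 :=
  Iso.refl _

instance : (DEquiv.singleB A).Full := Functor.Full.of_comp_faithful_iso (sBι A)

instance : (DEquiv.singleB A).Faithful := Functor.Faithful.of_comp_iso (sBι A)

variable {D : Type u'} [Category.{v'} D] [Preadditive D] [HasShift D ℤ]
  (F F' : DerivedCategory.Bounded A ⥤ D) [F.CommShift ℤ] [F'.CommShift ℤ]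
  (t : DEquiv.singleB A ⋙ F ≅ DEquiv.singleB A ⋙ F')

/-- a presentation of an object as a single object in degree `d` -/
structure SingRep (d : ℤ) (Z : DerivedCategory.Bounded A) where
  /-- the object of `A` -/
  Y : A
  /-- the isomorphism -/
  iso : Z ≅ ((DEquiv.singleB A).obj Y)⟦-d⟧

namespace SingRep

variable {F F' t}
variable {d : ℤ} {Z Z' : DerivedCategory.Bounded A}

variable (F F' t) in
/-- the isomorphism `F Z ≅ F' Z` induced by `t` -/
def tIso (r : SingRep d Z) : F.obj Z ≅ F'.obj Z :=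
  F.mapIso r.iso ≪≫ ((F.commShiftIso (-d)).app ((DEquiv.singleB A).obj r.Y) ≪≫
      (shiftFunctor D (-d)).mapIso (t.app r.Y) ≪≫
      ((F'.commShiftIso (-d)).app ((DEquiv.singleB A).obj r.Y)).symm) ≪≫ (F'.mapIso r.iso).symm

lemma tIso_hom (r : SingRep d Z) : (r.tIso F F' t).hom =
    F.map r.iso.hom ≫ (F.commShiftIso (-d)).hom.app ((DEquiv.singleB A).obj r.Y) ≫
      (t.hom.app r.Y)⟦-d⟧' ≫ (F'.commShiftIso (-d)).inv.app ((DEquiv.singleB A).obj r.Y) ≫
        F'.map r.iso.inv := by
  simp only [tIso, Iso.trans_hom, Functor.mapIso_hom, Iso.app_hom, Iso.symm_hom,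
    Functor.mapIso_inv, Category.assoc, Iso.app_inv]

lemma t_natural (r : SingRep d Z) (r' : SingRep d Z') (g : Z ⟶ Z') :
    F.map g ≫ (r'.tIso F F' t).hom = (r.tIso F F' t).hom ≫ F'.map g := by
  obtain ⟨e, he⟩ := (DEquiv.singleB A ⋙ shiftFunctor (DerivedCategory.Bounded A) (-d)).map_surjective
    (r.iso.inv ≫ g ≫ r'.iso.hom)
  rw [Functor.comp_map] at he
  have hg : g = r.iso.hom ≫ ((DEquiv.singleB A).map e)⟦-d⟧' ≫ r'.iso.inv := by
    rw [he]; simp
  have hn : (F.map ((DEquiv.singleB A).map e))⟦-d⟧' ≫ (t.hom.app r'.Y)⟦-d⟧' =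
      (t.hom.app r.Y)⟦-d⟧' ≫ (F'.map ((DEquiv.singleB A).map e))⟦-d⟧' := by
    rw [← Functor.map_comp, ← Functor.map_comp]
    congr 1
    exact t.hom.naturality e
  rw [tIso_hom, tIso_hom, hg]
  simp only [Functor.map_comp, Category.assoc]
  rw [← F.map_comp_assoc r'.iso.inv, Iso.inv_hom_id, F.map_id, Category.id_comp]
  rw [← F'.map_comp_assoc r.iso.inv, Iso.inv_hom_id, F'.map_id, Category.id_comp]
  rw [F.commShiftIso_hom_naturality_assoc, reassoc_of% hn, F'.commShiftIso_inv_naturality_assoc]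

/-- shifting a presentation -/
def shift (r : SingRep d Z) (a d' : ℤ) (h : d' + a = d) : SingRep d' (Z⟦a⟧) where
  Y := r.Y
  iso := (shiftFunctor _ a).mapIso r.iso ≪≫
    (shiftFunctorAdd' (DerivedCategory.Bounded A) (-d) a (-d') (by lia)).symm.app
      ((DEquiv.singleB A).obj r.Y)

lemma tIso_shift (r : SingRep d Z) (a d' : ℤ) (h : d' + a = d) :
    ((r.shift a d' h).tIso F F' t).hom =
      (F.commShiftIso a).hom.app Z ≫ ((r.tIso F F' t).hom)⟦a⟧' ≫
        (F'.commShiftIso a).inv.app Z := by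
  have h' : -d + a = -d' := by lia
  rw [tIso_hom, tIso_hom]
  have e1 : F.map ((shiftFunctorAdd' (DerivedCategory.Bounded A) (-d) a (-d') h').inv.app
        ((DEquiv.singleB A).obj r.Y)) ≫
      F.map ((shiftFunctorAdd' (DerivedCategory.Bounded A) (-d) a (-d') h').hom.app
        ((DEquiv.singleB A).obj r.Y)) = 𝟙 _ := by
    rw [← F.map_comp, Iso.inv_hom_id_app, F.map_id]
  have e2 : F'.map ((shiftFunctorAdd' (DerivedCategory.Bounded A) (-d) a (-d') h').inv.app
        ((DEquiv.singleB A).obj r.Y)) ≫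
      F'.map ((shiftFunctorAdd' (DerivedCategory.Bounded A) (-d) a (-d') h').hom.app
        ((DEquiv.singleB A).obj r.Y)) = 𝟙 _ := by
    rw [← F'.map_comp, Iso.inv_hom_id_app, F'.map_id]
  have e3 : (shiftFunctorAdd' D (-d) a (-d') h').inv.app (F.obj ((DEquiv.singleB A).obj r.Y)) ≫
      (t.hom.app r.Y)⟦-d'⟧' ≫
      (shiftFunctorAdd' D (-d) a (-d') h').hom.app (F'.obj ((DEquiv.singleB A).obj r.Y)) =
        ((t.hom.app r.Y)⟦-d⟧')⟦a⟧' := by
    have := (shiftFunctorAdd' D (-d) a (-d') h').hom.naturality (t.hom.app r.Y)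
    dsimp at this
    rw [this, Iso.inv_hom_id_app_assoc]
  have e4 : F.map ((r.iso.hom)⟦a⟧') ≫
      (F.commShiftIso a).hom.app (((DEquiv.singleB A).obj r.Y)⟦-d⟧) =
      (F.commShiftIso a).hom.app Z ≫ (F.map r.iso.hom)⟦a⟧' :=
    F.commShiftIso_hom_naturality r.iso.hom a
  have e5 : (F'.commShiftIso a).inv.app (((DEquiv.singleB A).obj r.Y)⟦-d⟧) ≫
      F'.map ((r.iso.inv)⟦a⟧') =
      (F'.map r.iso.inv)⟦a⟧' ≫ (F'.commShiftIso a).inv.app Z :=
    (F'.commShiftIso_inv_naturality r.iso.inv a).symm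
  dsimp only [SingRep.shift, Iso.trans_hom, Iso.trans_inv, Functor.mapIso_hom, Functor.mapIso_inv,
    Iso.symm_hom, Iso.symm_inv, Iso.app_hom, Iso.app_inv]
  rw [F.commShiftIso_add' h', F'.commShiftIso_add' h']
  simp only [Functor.CommShift.isoAdd'_hom_app, Functor.CommShift.isoAdd'_inv_app,
    Functor.map_comp, Category.assoc]
  rw [reassoc_of% e1, reassoc_of% e4, reassoc_of% e3, reassoc_of% e2, e5]

end SingRep

end Groth.Agent.Helper6.Sib
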