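import Mathlib
import Groth.Agent.Lib.Helper6.Sib.Basic
import Groth.Agent.Lib.Helper6.DRef.SingleEpi

set_option linter.unusedSectionVars false
set_option linter.unusedVariables false
set_option linter.unusedSimpArgs false
set_option autoImplicit false
set_option linter.style.haveILetI false
set_option maxHeartbeats 400000

universe w v u v' u'

noncomputable section

namespace Groth.Agent.Helper6.Sib

open CategoryTheory CategoryTheory.Limits DerivedCategory CategoryTheory.Pretriangulated

variable {A : Type u} [Category.{v} A] [Abelian A] [HasDerivedCategory.{w} A]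

/-- a presentation from an isomorphism with a single object in the derived category -/
def singRepOfIso {K : DerivedCategory.Bounded A} {b : ℤ} {Y : A}
    (e : K.obj ≅ (DerivedCategory.singleFunctor A b).obj Y) : SingRep b K where
  Y := Y
  iso := ObjectProperty.isoMk _ (e ≪≫
    ((DerivedCategory.singleFunctors A).shiftIso (-b) b 0 (by simp)).symm.app Y ≪≫
    (((TStructure.t (C := A)).bounded.ι.commShiftIso (-b)).app ((DEquiv.singleB A).obj Y)).symm)

lemma exists_singRep (K : DerivedCategory.Bounded A) (b : ℤ) [K.obj.IsGE b] [K.obj.IsLE b] :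
    Nonempty (SingRep b K) := by
  obtain ⟨Y, ⟨e⟩⟩ := DerivedCategory.exists_iso_singleFunctor_obj_of_isGE_of_isLE K.obj b
  exact ⟨singRepOfIso e⟩

/-- the single object in degree `b`, as a bounded object -/
def sObj (b : ℤ) (N : A) : DerivedCategory.Bounded A :=
  ⟨(DerivedCategory.singleFunctor A b).obj N, ⟨⟨b, inferInstance⟩, ⟨b, inferInstance⟩⟩⟩

/-- dévissage: splitting off the top cohomology -/
theorem exists_devissage (K : DerivedCategory.Bounded A) (a b : ℤ) (hab : a < b)
    [K.obj.IsGE a] [K.obj.IsLE b] :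
    ∃ (Z : DerivedCategory.Bounded A) (r : SingRep b Z) (ξ : Z ⟶ K)
      (L : DerivedCategory.Bounded A) (η : K ⟶ L) (δ : L ⟶ Z⟦(1 : ℤ)⟧),
      Triangle.mk ξ η δ ∈ distTriang _ ∧ L.obj.IsGE a ∧ L.obj.IsLE (b - 1) := by
  obtain ⟨N, g, hg⟩ := DRef.exists_single_epi K.obj b
  let Z : DerivedCategory.Bounded A := sObj b N
  let r : SingRep b Z := singRepOfIso (Iso.refl _)
  let ξ : Z ⟶ K := ObjectProperty.homMk g
  obtain ⟨L, η, δ, hT⟩ := distinguished_cocone_triangle ξ
  let T' := (TStructure.t (C := A)).bounded.ι.mapTriangle.obj (Triangle.mk ξ η δ)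
  have hT' : T' ∈ distTriang (DerivedCategory A) := hT
  have hZ1 : ∀ i : ℤ, i < b → IsZero ((DerivedCategory.homologyFunctor A i).obj Z.obj) :=
    fun i hi => DerivedCategory.isZero_of_isGE ((DerivedCategory.singleFunctor A b).obj N) b i hi
  have hZ2 : ∀ i : ℤ, b < i → IsZero ((DerivedCategory.homologyFunctor A i).obj Z.obj) :=
    fun i hi => DerivedCategory.isZero_of_isLE ((DerivedCategory.singleFunctor A b).obj N) b i hi
  refine ⟨Z, r, ξ, L, η, δ, hT, ?_, ?_⟩
  · rw [DerivedCategory.isGE_iff]
    intro i hi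
    have ex := DerivedCategory.HomologySequence.exact₃ T' hT' i (i + 1) rfl
    exact ex.isZero_of_both_zeros
      ((DerivedCategory.isZero_of_isGE K.obj a i hi).eq_of_src _ _)
      ((hZ1 (i + 1) (by lia)).eq_of_tgt _ _)
  · rw [DerivedCategory.isLE_iff]
    intro i hi
    have ex := DerivedCategory.HomologySequence.exact₃ T' hT' i (i + 1) rfl
    by_cases hib : i = b
    · subst hib
      have h0 : (DerivedCategory.homologyFunctor A i).map T'.mor₂ = 0 :=
        (DerivedCategory.HomologySequence.epi_homologyMap_mor₁_iff T' hT' i).1 hg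
      exact ex.isZero_of_both_zeros h0 ((hZ2 (i + 1) (by lia)).eq_of_tgt _ _)
    · exact ex.isZero_of_both_zeros
        ((DerivedCategory.isZero_of_isLE K.obj b i (by lia)).eq_of_src _ _)
        ((hZ2 (i + 1) (by lia)).eq_of_tgt _ _)

end Groth.Agent.Helper6.Sib
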