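import Mathlib
import Groth.Agent.Lib.Helper6.Sib.Devissage

set_option linter.unusedSectionVars false
set_option linter.unusedVariables false
set_option linter.unusedSimpArgs false
set_option autoImplicit false
set_option linter.style.haveILetI false
set_option maxHeartbeats 400000

universe w v u v' u'

noncomputable section

namespace Groth.Agent.Helper6.Sib

open CategoryTheory CategoryTheory.Limits DerivedCategory CategoryTheory.Pretriangulated

variable {A : Type u} [Category.{v} A] [Abelian A] [HasDerivedCategory.{w} A]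

variable {D : Type u'} [Category.{v'} D] [Preadditive D] [HasZeroObject D] [HasShift D ℤ]
  [∀ n : ℤ, (shiftFunctor D n).Additive] [Pretriangulated D]

/-- no maps `U⟦n⟧ ⟶ V⟦m⟧` when all maps `U ⟶ V⟦m - n⟧` vanish -/
lemma shift_hom_eq_zero {U V : D} (n m q : ℤ) (hq : q + n = m) (h : ∀ f : U ⟶ V⟦q⟧, f = 0)
    (ψ : U⟦n⟧ ⟶ V⟦m⟧) : ψ = 0 := by
  let α := (shiftFunctorAdd' D q n m hq).app V
  obtain ⟨f, hf⟩ := (shiftFunctor D n).map_surjective (ψ ≫ α.hom)
  rw [h f, Functor.map_zero] at hf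
  rw [← cancel_mono α.hom, ← hf, zero_comp]

variable (F F' : DerivedCategory.Bounded A ⥤ D) [F.CommShift ℤ] [F'.CommShift ℤ]
  (t : DEquiv.singleB A ⋙ F ≅ DEquiv.singleB A ⋙ F')
  (h2 : ∀ (X Y : A) (q : ℤ), q < 0 →
      ∀ f : F.obj ((DEquiv.singleB A).obj X) ⟶ (shiftFunctor D q).obj (F.obj ((DEquiv.singleB A).obj Y)),
        f = 0)

include h2 in
lemma hom_F_eq_zero {d d' : ℤ} {Z Z' : DerivedCategory.Bounded A} (r : SingRep d Z)
    (r' : SingRep d' Z') (hd : d < d') (φ : F.obj Z ⟶ F.obj Z') : φ = 0 := by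
  let φ' : (F.obj ((DEquiv.singleB A).obj r.Y))⟦-d⟧ ⟶ (F.obj ((DEquiv.singleB A).obj r'.Y))⟦-d'⟧ :=
    (F.commShiftIso (-d)).inv.app _ ≫ F.map r.iso.inv ≫ φ ≫ F.map r'.iso.hom ≫
      (F.commShiftIso (-d')).hom.app _
  have h0 : φ' = 0 := shift_hom_eq_zero (-d) (-d') (d - d') (by lia)
    (fun f => h2 _ _ _ (by lia) f) φ'
  have h1 : φ = F.map r.iso.hom ≫ (F.commShiftIso (-d)).hom.app _ ≫ φ' ≫
      (F.commShiftIso (-d')).inv.app _ ≫ F.map r'.iso.inv := by
    dsimp only [φ']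
    simp only [Category.assoc, Iso.hom_inv_id_app_assoc, Iso.hom_inv_id_app]
    rw [← F.map_comp_assoc, Iso.hom_inv_id, F.map_id, Category.id_comp]
    rw [← F.map_comp, Iso.hom_inv_id, F.map_id, Category.comp_id]
  rw [h1, h0]
  simp

include h2 t in
lemma hom_FF'_eq_zero {d d' : ℤ} {Z Z' : DerivedCategory.Bounded A} (r : SingRep d Z)
    (r' : SingRep d' Z') (hd : d < d') (φ : F.obj Z ⟶ F'.obj Z') : φ = 0 := by
  have := hom_F_eq_zero F h2 r r' hd (φ ≫ (r'.tIso F F' t).inv)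
  rw [← cancel_mono (r'.tIso F F' t).inv, this, zero_comp]

variable [F.IsTriangulated]

include h2 t in
/-- no maps from `F M` to `F'` of a single object in degree above the amplitude of `M` -/
theorem hom_eq_zero_of_isLE : ∀ (k : ℕ) (c n : ℤ) (M : DerivedCategory.Bounded A),
    M.obj.IsGE c → M.obj.IsLE n → n - c ≤ k → ∀ (d : ℤ) (_ : n < d) (Z : DerivedCategory.Bounded A)
      (r : SingRep d Z) (φ : F.obj M ⟶ F'.obj Z), φ = 0 := by
  intro k
  induction k with
  | zero =>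
    intro c n M hc hn hk d hd Z r φ
    haveI : M.obj.IsGE n := TStructure.t.isGE_of_ge M.obj n c (by lia)
    obtain ⟨r₀⟩ := exists_singRep M n
    exact hom_FF'_eq_zero F F' t h2 r₀ r hd φ
  | succ k ih =>
    intro c n M hc hn hk d hd Z r φ
    by_cases hcn : n ≤ c
    · haveI : M.obj.IsGE n := TStructure.t.isGE_of_ge M.obj n c hcn
      obtain ⟨r₀⟩ := exists_singRep M n
      exact hom_FF'_eq_zero F F' t h2 r₀ r hd φ
    · obtain ⟨Z₀, r₀, ξ, L, η, δ, hT, hL1, hL2⟩ := exists_devissage M c n (by lia)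
      have h0 : F.map ξ ≫ φ = 0 := hom_FF'_eq_zero F F' t h2 r₀ r hd _
      have hFT := F.map_distinguished _ hT
      obtain ⟨ψ, hψ⟩ := Triangle.yoneda_exact₂ _ hFT φ h0
      have hψ0 : ψ = 0 := ih c (n - 1) L hL1 hL2 (by lia) d (by lia) Z r ψ
      rw [hψ, hψ0]
      exact comp_zero

end Groth.Agent.Helper6.Sib
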