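import Mathlib
import Groth.Agent.Lib.Helper6.Sib.Vanish

set_option linter.unusedSectionVars false
set_option linter.unusedVariables false
set_option linter.unusedSimpArgs false
set_option autoImplicit false
set_option linter.style.haveILetI false
set_option maxHeartbeats 400000

universe v u v' u'

noncomputable section

namespace Groth.Agent.Helper6.Sib

open CategoryTheory CategoryTheory.Limits CategoryTheory.Pretriangulated

variable {C : Type u} [Category.{v} C] [Preadditive C] [HasZeroObject C] [HasShift C ℤ]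
  [∀ n : ℤ, (shiftFunctor C n).Additive] [Pretriangulated C]

variable {D : Type u'} [Category.{v'} D] [Preadditive D] [HasZeroObject D] [HasShift D ℤ]
  [∀ n : ℤ, (shiftFunctor D n).Additive] [Pretriangulated D]

variable (G : C ⥤ D) [G.CommShift ℤ]

/-- `G` is bijective on `Hom(K, L)` -/
def Bij (K L : C) : Prop :=
  Function.Bijective (fun g : K ⟶ L => G.map g)

variable {G}

lemma Bij.inj {K L : C} (h : Bij G K L) {g g' : K ⟶ L} (hg : G.map g = G.map g') : g = g' :=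
  h.1 hg

lemma Bij.eq_zero {K L : C} [G.PreservesZeroMorphisms] (h : Bij G K L) {g : K ⟶ L}
    (hg : G.map g = 0) : g = 0 :=
  h.1 (by dsimp only; rw [hg, G.map_zero])

lemma Bij.surj {K L : C} (h : Bij G K L) (θ : G.obj K ⟶ G.obj L) : ∃ g : K ⟶ L, G.map g = θ :=
  h.2 θ

lemma Bij.of_iso {K K' L L' : C} (e₁ : K ≅ K') (e₂ : L ≅ L')
    (h : Bij G K L) : Bij G K' L' := by
  constructor
  · intro g g' hgg
    dsimp only at hgg
    have h1 : G.map (e₁.hom ≫ g ≫ e₂.inv) = G.map (e₁.hom ≫ g' ≫ e₂.inv) := by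
      simp only [Functor.map_comp, hgg]
    have h2 := h.1 h1
    rw [cancel_epi, cancel_mono] at h2
    exact h2
  · intro θ
    obtain ⟨g, hg⟩ := h.2 (G.map e₁.hom ≫ θ ≫ G.map e₂.inv)
    dsimp only at hg
    refine ⟨e₁.inv ≫ g ≫ e₂.hom, ?_⟩
    dsimp only
    rw [Functor.map_comp, Functor.map_comp, hg]
    simp only [Category.assoc, ← Functor.map_comp, Iso.inv_hom_id, CategoryTheory.Functor.map_id,
      Category.comp_id]
    rw [← Functor.map_comp_assoc, Iso.inv_hom_id, CategoryTheory.Functor.map_id, Category.id_comp]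

lemma map_shift_eq {K L : C} (g : K ⟶ L) (a : ℤ) :
    G.map (g⟦a⟧') = (G.commShiftIso a).hom.app K ≫ (G.map g)⟦a⟧' ≫
      (G.commShiftIso a).inv.app L := by
  have := G.commShiftIso_hom_naturality g a
  rw [← reassoc_of% this, Iso.hom_inv_id_app]
  exact (Category.comp_id _).symm

lemma Bij.shift {K L : C} (h : Bij G K L) (a : ℤ) :
    Bij G (K⟦a⟧) (L⟦a⟧) := by
  constructor
  · intro g g' hgg
    dsimp only at hgg
    obtain ⟨g₀, rfl⟩ := (shiftFunctor _ a).map_surjective g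
    obtain ⟨g₀', rfl⟩ := (shiftFunctor _ a).map_surjective g'
    rw [map_shift_eq, map_shift_eq, cancel_epi, cancel_mono] at hgg
    have := h.1 ((shiftFunctor D a).map_injective hgg)
    rw [this]
  · intro θ
    obtain ⟨φ, hφ⟩ := (shiftFunctor D a).map_surjective
      ((G.commShiftIso a).inv.app K ≫ θ ≫ (G.commShiftIso a).hom.app L)
    obtain ⟨g, hg⟩ := h.2 φ
    dsimp only at hg
    refine ⟨g⟦a⟧', ?_⟩
    dsimp only
    rw [map_shift_eq, hg, hφ]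
    simp

lemma Bij.of_shift {K L : C} (a : ℤ) (h : Bij G (K⟦a⟧) (L⟦a⟧)) :
    Bij G K L :=
  (h.shift (-a)).of_iso ((shiftFunctorCompIsoId _ a (-a) (by simp)).app K)
    ((shiftFunctorCompIsoId _ a (-a) (by simp)).app L)

/-- moving a shift from the source to the target -/
lemma Bij.of_shift_target {K L : C} (a : ℤ) (h : Bij G K (L⟦-a⟧)) : Bij G (K⟦a⟧) L :=
  (h.shift a).of_iso (Iso.refl _) ((shiftFunctorCompIsoId _ (-a) a (by simp)).app L)

/-- moving a shift from the target to the source -/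
lemma Bij.of_shift_source {K L : C} (a : ℤ) (h : Bij G (K⟦-a⟧) L) : Bij G K (L⟦a⟧) :=
  (h.shift a).of_iso ((shiftFunctorCompIsoId _ (-a) a (by simp)).app K) (Iso.refl _)

/-- both hom groups vanish -/
lemma Bij.of_zero {K L : C} [G.PreservesZeroMorphisms] (h₁ : ∀ g : K ⟶ L, g = 0)
    (h₂ : ∀ θ : G.obj K ⟶ G.obj L, θ = 0) : Bij G K L := by
  constructor
  · intro g g' _
    rw [h₁ g, h₁ g']
  · intro θ
    exact ⟨0, by dsimp only; rw [G.map_zero, h₂ θ]⟩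

section five

variable [G.IsTriangulated]

/-- contravariant five lemma, injectivity piece -/
lemma inj_piece_left (T : Triangle C) (hT : T ∈ distTriang C) (L : C)
    (hS : Bij G (T.obj₁⟦(1 : ℤ)⟧) L) (hI : Bij G T.obj₃ L) (g : T.obj₂ ⟶ L)
    (h1 : T.mor₁ ≫ g = 0) (h2 : G.map g = 0) : g = 0 := by
  have e1 : ∃ g₃ : T.obj₃ ⟶ L, g = T.mor₂ ≫ g₃ := Triangle.yoneda_exact₂ T hT g h1
  obtain ⟨g₃, hg₃⟩ := e1
  have hTr := G.map_distinguished _ (rot_of_distTriang _ hT)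
  have h3 : G.map T.mor₂ ≫ G.map g₃ = 0 := by
    rw [← G.map_comp, ← hg₃, h2]
  have e2 : ∃ φ : G.obj (T.obj₁⟦(1 : ℤ)⟧) ⟶ G.obj L, G.map g₃ = G.map T.mor₃ ≫ φ :=
    Triangle.yoneda_exact₂ _ hTr (G.map g₃) h3
  obtain ⟨φ, hφ⟩ := e2
  obtain ⟨h, hh⟩ := hS.surj φ
  have h4 : g₃ = T.mor₃ ≫ h := hI.inj (by rw [hφ, G.map_comp, hh])
  rw [hg₃, h4, comp_distTriang_mor_zero₂₃_assoc _ hT, zero_comp]

/-- contravariant five lemma, surjectivity piece -/
lemma surj_piece_left (T : Triangle C) (hT : T ∈ distTriang C) (L : C)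
    (hS : Bij G T.obj₃ L) (θ : G.obj T.obj₂ ⟶ G.obj L)
    (h : G.map T.mor₁ ≫ θ = 0) : ∃ g : T.obj₂ ⟶ L, G.map g = θ := by
  have hTr := G.map_distinguished _ hT
  have e2 : ∃ φ : G.obj T.obj₃ ⟶ G.obj L, θ = G.map T.mor₂ ≫ φ :=
    Triangle.yoneda_exact₂ _ hTr θ h
  obtain ⟨φ, hφ⟩ := e2
  obtain ⟨g₃, hg₃⟩ := hS.surj φ
  exact ⟨T.mor₂ ≫ g₃, by rw [G.map_comp, hg₃, hφ]⟩

/-- contravariant five lemma -/
lemma Bij.of_triangle_left (T : Triangle C) (hT : T ∈ distTriang C) (L : C)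
    (h₁ : Bij G T.obj₁ L) (h₃ : Bij G T.obj₃ L) (h₁' : Bij G (T.obj₁⟦(1 : ℤ)⟧) L)
    (h₃' : Bij G (T.obj₃⟦(-1 : ℤ)⟧) L) : Bij G T.obj₂ L := by
  have inj0 : ∀ g : T.obj₂ ⟶ L, G.map g = 0 → g = 0 := by
    intro g hg
    refine inj_piece_left T hT L h₁' h₃ g ?_ hg
    apply h₁.eq_zero
    rw [G.map_comp, hg, comp_zero]
  constructor
  · intro g g' hgg
    dsimp only at hgg
    rw [← sub_eq_zero]
    apply inj0
    rw [G.map_sub, hgg, sub_self]
  · intro θ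
    obtain ⟨g₁, hg₁⟩ := h₁.surj (G.map T.mor₁ ≫ θ)
    have hTi := inv_rot_of_distTriang _ hT
    obtain ⟨w, hw⟩ : ∃ w : T.obj₃⟦(-1 : ℤ)⟧ ⟶ T.obj₁, w = T.invRotate.mor₁ := ⟨_, rfl⟩
    have hw0 : w ≫ T.mor₁ = 0 := by
      subst hw
      exact comp_distTriang_mor_zero₁₂ _ hTi
    have h5 : w ≫ g₁ = 0 := by
      apply h₃'.eq_zero
      rw [G.map_comp, hg₁, ← G.map_comp_assoc, hw0, G.map_zero, zero_comp]
    have e1 : ∃ g₂ : T.obj₂ ⟶ L, g₁ = T.mor₁ ≫ g₂ := by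
      subst hw
      exact Triangle.yoneda_exact₂ _ hTi g₁ h5
    obtain ⟨g₂, hg₂⟩ := e1
    obtain ⟨g', hg'⟩ := surj_piece_left T hT L h₃ (θ - G.map g₂) (by
      rw [Preadditive.comp_sub, ← G.map_comp, ← hg₂, hg₁, sub_self])
    exact ⟨g' + g₂, by dsimp only; rw [G.map_add, hg']; abel⟩

/-- covariant five lemma -/
lemma Bij.of_triangle_right (T : Triangle C) (hT : T ∈ distTriang C) (K : C)
    (h₁ : Bij G K T.obj₁) (h₃ : Bij G K T.obj₃) (h₁' : Bij G K (T.obj₁⟦(1 : ℤ)⟧))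
    (h₃' : Bij G K (T.obj₃⟦(-1 : ℤ)⟧)) : Bij G K T.obj₂ := by
  have hTi := inv_rot_of_distTriang _ hT
  have hTr := rot_of_distTriang _ hT
  have inj0 : ∀ g : K ⟶ T.obj₂, G.map g = 0 → g = 0 := by
    intro g hg
    have h1 : g ≫ T.mor₂ = 0 := by
      apply h₃.eq_zero
      rw [G.map_comp, hg, zero_comp]
    have e1 : ∃ g₁ : K ⟶ T.obj₁, g = g₁ ≫ T.mor₁ := Triangle.coyoneda_exact₂ T hT g h1
    obtain ⟨g₁, hg₁⟩ := e1
    have h3 : G.map g₁ ≫ G.map T.mor₁ = 0 := by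
      rw [← G.map_comp, ← hg₁, hg]
    obtain ⟨w, hw⟩ : ∃ w : T.obj₃⟦(-1 : ℤ)⟧ ⟶ T.obj₁, w = T.invRotate.mor₁ := ⟨_, rfl⟩
    have hw0 : w ≫ T.mor₁ = 0 := by
      subst hw
      exact comp_distTriang_mor_zero₁₂ _ hTi
    have e2 : ∃ φ : G.obj K ⟶ G.obj (T.obj₃⟦(-1 : ℤ)⟧), G.map g₁ = φ ≫ G.map w := by
      subst hw
      exact Triangle.coyoneda_exact₂ _ (G.map_distinguished _ hTi) (G.map g₁) h3
    obtain ⟨φ, hφ⟩ := e2
    obtain ⟨h, hh⟩ := h₃'.surj φ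
    have h4 : g₁ = h ≫ w := h₁.inj (by rw [hφ, G.map_comp, hh])
    rw [hg₁, h4, Category.assoc, hw0, comp_zero]
  constructor
  · intro g g' hgg
    dsimp only at hgg
    rw [← sub_eq_zero]
    apply inj0
    rw [G.map_sub, hgg, sub_self]
  · intro θ
    obtain ⟨g₃, hg₃⟩ := h₃.surj (θ ≫ G.map T.mor₂)
    have h5 : g₃ ≫ T.mor₃ = 0 := by
      apply h₁'.eq_zero
      rw [G.map_comp, hg₃, Category.assoc, ← G.map_comp, comp_distTriang_mor_zero₂₃ _ hT,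
        G.map_zero, comp_zero]
    have e1 : ∃ g₂ : K ⟶ T.obj₂, g₃ = g₂ ≫ T.mor₂ := Triangle.coyoneda_exact₂ _ hTr g₃ h5
    obtain ⟨g₂, hg₂⟩ := e1
    have h6 : (θ - G.map g₂) ≫ G.map T.mor₂ = 0 := by
      rw [Preadditive.sub_comp, ← G.map_comp, ← hg₂, hg₃, sub_self]
    have e2 : ∃ ψ : G.obj K ⟶ G.obj T.obj₁, θ - G.map g₂ = ψ ≫ G.map T.mor₁ :=
      Triangle.coyoneda_exact₂ _ (G.map_distinguished _ hT) _ h6
    obtain ⟨ψ, hψ⟩ := e2
    obtain ⟨g₁, hg₁⟩ := h₁.surj ψ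
    exact ⟨g₁ ≫ T.mor₁ + g₂, by dsimp only; rw [G.map_add, G.map_comp, hg₁, ← hψ]; abel⟩

end five

end Groth.Agent.Helper6.Sib
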