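import Mathlib
import Groth.Agent.Lib.Helper6.Sib.Devissage

set_option linter.unusedSectionVars false
set_option linter.unusedVariables false
set_option linter.unusedSimpArgs false
set_option autoImplicit false
set_option linter.style.haveILetI false
set_option maxHeartbeats 400000

universe w v u v' u'

noncomputable section

namespace Groth.Agent.Helper6.Sib

open CategoryTheory CategoryTheory.Limits DerivedCategory CategoryTheory.Pretriangulated

variable {A : Type u} [Category.{v} A] [Abelian A] [HasDerivedCategory.{w} A]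

/-- a short exact sequence gives a distinguished triangle in the bounded derived category -/
lemma exists_ses_triangle {S : ShortComplex A} (hS : S.ShortExact) :
    ∃ (ε : (DEquiv.singleB A).obj S.X₃ ⟶ ((DEquiv.singleB A).obj S.X₁)⟦(1 : ℤ)⟧),
      Triangle.mk ((DEquiv.singleB A).map S.f) ((DEquiv.singleB A).map S.g) ε ∈
        distTriang (DerivedCategory.Bounded A) := by
  let δ₀ : (TStructure.t (C := A)).bounded.ι.obj ((DEquiv.singleB A).obj S.X₃) ⟶
      ((TStructure.t (C := A)).bounded.ι ⋙ shiftFunctor _ (1 : ℤ)).obj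
        ((DEquiv.singleB A).obj S.X₁) := hS.singleδ
  let ε₀ : (TStructure.t (C := A)).bounded.ι.obj ((DEquiv.singleB A).obj S.X₃) ⟶
      (TStructure.t (C := A)).bounded.ι.obj (((DEquiv.singleB A).obj S.X₁)⟦(1 : ℤ)⟧) :=
    δ₀ ≫ ((TStructure.t (C := A)).bounded.ι.commShiftIso (1 : ℤ)).inv.app
      ((DEquiv.singleB A).obj S.X₁)
  let ε : (DEquiv.singleB A).obj S.X₃ ⟶ ((DEquiv.singleB A).obj S.X₁)⟦(1 : ℤ)⟧ :=
    ObjectProperty.homMk ε₀
  refine ⟨ε, ?_⟩
  change (TStructure.t (C := A)).bounded.ι.mapTriangle.obj _ ∈ distTriang _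
  refine isomorphic_distinguished _ hS.singleTriangle_distinguished _
    (Triangle.isoMk _ _ (Iso.refl _) (Iso.refl _) (Iso.refl _) ?_ ?_ ?_)
  · exact (Category.comp_id _).trans (Category.id_comp _).symm
  · exact (Category.comp_id _).trans (Category.id_comp _).symm
  · have h1 : (TStructure.t (C := A)).bounded.ι.map ε ≫
        ((TStructure.t (C := A)).bounded.ι.commShiftIso (1 : ℤ)).hom.app
          ((DEquiv.singleB A).obj S.X₁) = δ₀ := by
      change ε₀ ≫ _ = _
      dsimp only [ε₀]
      rw [Category.assoc, Iso.inv_hom_id_app]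
      exact Category.comp_id _
    have h2 : (𝟙 ((DerivedCategory.singleFunctor A 0).obj S.X₁))⟦(1 : ℤ)⟧' = 𝟙 _ :=
      CategoryTheory.Functor.map_id _ _
    refine Eq.trans ?_ (Category.id_comp _).symm
    refine Eq.trans ?_ h1
    refine Eq.trans ?_ (Category.comp_id _)
    exact congrArg _ h2

end Groth.Agent.Helper6.Sib
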