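import Mathlib
import Groth.Agent.Lib.Helper6.Sib.Bij
import Groth.Agent.Lib.Helper6.Sib.SesTriangle

set_option linter.unusedSectionVars false
set_option linter.unusedVariables false
set_option linter.unusedSimpArgs false
set_option autoImplicit false
set_option linter.style.haveILetI false
set_option maxHeartbeats 400000

universe w v u v' u'

noncomputable section

namespace Groth.Agent.Helper6.Sib

open CategoryTheory CategoryTheory.Limits DerivedCategory CategoryTheory.Pretriangulated

variable {A : Type u} [Category.{v} A] [Abelian A] [HasDerivedCategory.{w} A]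

/-- the underlying object of a single in degree `d`, up to isomorphism -/
def SingRep.objIso {d : ℤ} {Z : DerivedCategory.Bounded A} (r : SingRep d Z) :
    Z.obj ≅ ((DerivedCategory.singleFunctor A 0).obj r.Y)⟦-d⟧ :=
  (TStructure.t (C := A)).bounded.ι.mapIso r.iso ≪≫
    ((TStructure.t (C := A)).bounded.ι.commShiftIso (-d)).app ((DEquiv.singleB A).obj r.Y)

lemma SingRep.isLE {d : ℤ} {Z : DerivedCategory.Bounded A} (r : SingRep d Z) : Z.obj.IsLE d := by
  haveI : (((DerivedCategory.singleFunctor A 0).obj r.Y)⟦-d⟧).IsLE d :=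
    TStructure.t.isLE_shift _ 0 (-d) d (by lia)
  exact TStructure.t.isLE_of_iso r.objIso.symm d

lemma SingRep.isGE {d : ℤ} {Z : DerivedCategory.Bounded A} (r : SingRep d Z) : Z.obj.IsGE d := by
  haveI : (((DerivedCategory.singleFunctor A 0).obj r.Y)⟦-d⟧).IsGE d :=
    TStructure.t.isGE_shift _ 0 (-d) d (by lia)
  exact TStructure.t.isGE_of_iso r.objIso.symm d

/-- no maps from a single in degree `d` to a single in degree `d' > d` -/
lemma SingRep.hom_eq_zero {d d' : ℤ} {Z Z' : DerivedCategory.Bounded A} (r : SingRep d Z)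
    (r' : SingRep d' Z') (h : d < d') (g : Z ⟶ Z') : g = 0 := by
  haveI := r.isLE
  haveI := r'.isGE
  apply (TStructure.t (C := A)).bounded.ι.map_injective
  rw [Functor.map_zero]
  exact TStructure.t.zero (X := Z.obj) (Y := Z'.obj) _ d d' h

/-- the single in degree `0` -/
def singRepZero (X : A) : SingRep 0 ((DEquiv.singleB A).obj X) where
  Y := X
  iso := (shiftFunctorZero' _ (-0 : ℤ) (by simp)).symm.app _

variable {D : Type u'} [Category.{v'} D] [Preadditive D] [HasZeroObject D] [HasShift D ℤ]
  [∀ n : ℤ, (shiftFunctor D n).Additive] [Pretriangulated D]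

variable (F F' : DerivedCategory.Bounded A ⥤ D) [F.CommShift ℤ] [F'.CommShift ℤ]
  [F.IsTriangulated] [F'.IsTriangulated]
  (t : DEquiv.singleB A ⋙ F ≅ DEquiv.singleB A ⋙ F') [F.Full] [F.Faithful]

include t in
/-- bijectivity between singles in the same degree -/
lemma bij_same {d : ℤ} {Z Z' : DerivedCategory.Bounded A} (r : SingRep d Z) (r' : SingRep d Z') :
    Bij F' Z Z' := by
  have key : ∀ g : Z ⟶ Z', F'.map g = (r.tIso F F' t).inv ≫ F.map g ≫ (r'.tIso F F' t).hom := by
    intro g
    rw [SingRep.t_natural r r' g, Iso.inv_hom_id_assoc]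
  constructor
  · intro g g' hgg
    dsimp only at hgg
    rw [key, key, cancel_epi, cancel_mono] at hgg
    exact F.map_injective hgg
  · intro θ
    obtain ⟨g, hg⟩ := F.map_surjective ((r.tIso F F' t).hom ≫ θ ≫ (r'.tIso F F' t).inv)
    refine ⟨g, ?_⟩
    dsimp only
    rw [key, hg]
    simp

include t in
/-- bijectivity (both sides vanish) from a single to a single in higher degree -/
lemma bij_lt {d d' : ℤ} {Z Z' : DerivedCategory.Bounded A} (r : SingRep d Z) (r' : SingRep d' Z')
    (h : d < d') : Bij F' Z Z' := by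
  apply Bij.of_zero (r.hom_eq_zero r' h)
  intro θ
  obtain ⟨g, hg⟩ := F.map_surjective ((r.tIso F F' t).hom ≫ θ ≫ (r'.tIso F F' t).inv)
  rw [r.hom_eq_zero r' h g, F.map_zero] at hg
  rw [← cancel_epi (r.tIso F F' t).hom, ← cancel_mono (r'.tIso F F' t).inv, Category.assoc, ← hg]
  simp

/-- effaceability in the bounded derived category -/
lemma exists_epi_kill_bdd {d' : ℤ} (hd' : d' < 0) (X : A) {T' : DerivedCategory.Bounded A}
    (r' : SingRep d' T') (g : (DEquiv.singleB A).obj X ⟶ T') :
    ∃ (X' : A) (π : X' ⟶ X) (_ : Epi π), (DEquiv.singleB A).map π ≫ g = 0 := by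
  haveI := r'.isLE
  have h : (DerivedCategory.homologyFunctor A 0).map
      ((TStructure.t (C := A)).bounded.ι.map g) = 0 :=
    (DerivedCategory.isZero_of_isLE T'.obj d' 0 hd').eq_of_tgt _ _
  obtain ⟨X', π, hπ, hk⟩ := DRef.exists_epi_kill_single 0 (N := X) (X := T'.obj)
    ((TStructure.t (C := A)).bounded.ι.map g) h
  refine ⟨X', π, hπ, ?_⟩
  apply (TStructure.t (C := A)).bounded.ι.map_injective
  rw [Functor.map_comp, Functor.map_zero]
  exact hk

/-- the rotated triangle attached to an epimorphism -/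
lemma exists_epi_triangle {X' X : A} (π : X' ⟶ X) [Epi π] :
    ∃ (W : A) (ε : (DEquiv.singleB A).obj X ⟶ ((DEquiv.singleB A).obj W)⟦(1 : ℤ)⟧)
      (γ : ((DEquiv.singleB A).obj W)⟦(1 : ℤ)⟧ ⟶ ((DEquiv.singleB A).obj X')⟦(1 : ℤ)⟧),
      Triangle.mk ((DEquiv.singleB A).map π) ε γ ∈ distTriang (DerivedCategory.Bounded A) := by
  have hS : (ShortComplex.kernelSequence π).ShortExact :=
    ShortComplex.ShortExact.mk' (ShortComplex.kernelSequence_exact π) inferInstance
      (by change Epi π; infer_instance)
  obtain ⟨ε, hε⟩ := exists_ses_triangle hS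
  exact ⟨kernel π, ε, _, rot_of_distTriang _ hε⟩

include t in
/-- bijectivity from a single in degree `0` to a single in degree `-q` -/
theorem bij_single_source : ∀ (q : ℕ) (d' : ℤ) (hd : d' = -(q : ℤ)) (X : A)
    (T' : DerivedCategory.Bounded A) (r' : SingRep d' T'),
    Bij F' ((DEquiv.singleB A).obj X) T' := by
  intro q
  induction q with
  | zero =>
    intro d' hd X T' r'
    have : d' = 0 := by simpa using hd
    subst this
    exact bij_same F F' t (singRepZero X) r'
  | succ q ih =>
    intro d' hd X T' r'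
    have hd'neg : d' < 0 := by push_cast at hd; lia
    have IH : ∀ W : A, Bij F' (((DEquiv.singleB A).obj W)⟦(1 : ℤ)⟧) T' := fun W =>
      Bij.of_shift_target 1 (ih (d' + 1) (by push_cast at hd; lia) W _
        (r'.shift (-1) (d' + 1) (by lia)))
    have inj0 : ∀ g : (DEquiv.singleB A).obj X ⟶ T', F'.map g = 0 → g = 0 := by
      intro g hg
      obtain ⟨X', π, hπ, hk⟩ := exists_epi_kill_bdd hd'neg X r' g
      obtain ⟨W, ε, γ, hT⟩ := exists_epi_triangle π
      exact inj_piece_left _ hT T' (IH X') (IH W) g hk hg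
    constructor
    · intro g g' hgg
      dsimp only at hgg
      rw [← sub_eq_zero]
      apply inj0
      rw [F'.map_sub, hgg, sub_self]
    · intro θ
      obtain ⟨g₀, hg₀⟩ := F.map_surjective
        (((singRepZero X).tIso F F' t).hom ≫ θ ≫ (r'.tIso F F' t).inv)
      obtain ⟨X', π, hπ, hk⟩ := exists_epi_kill_bdd hd'neg X r' g₀
      obtain ⟨W, ε, γ, hT⟩ := exists_epi_triangle π
      have hnat := SingRep.t_natural (F := F) (F' := F') (t := t) (singRepZero X') (singRepZero X)
        ((DEquiv.singleB A).map π)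
      have h0 : F'.map ((DEquiv.singleB A).map π) ≫ θ = 0 := by
        rw [← cancel_epi ((singRepZero X').tIso F F' t).hom, ← reassoc_of% hnat, comp_zero]
        have h1 : ((singRepZero X).tIso F F' t).hom ≫ θ = F.map g₀ ≫ (r'.tIso F F' t).hom := by
          rw [hg₀]
          simp
        rw [h1, ← F.map_comp_assoc, hk, F.map_zero, zero_comp]
      exact surj_piece_left _ hT T' (IH W) θ h0

end Groth.Agent.Helper6.Sib
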