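import Mathlib
import Groth.Agent.Lib.Helper6.Sib.Singles

set_option linter.unusedSectionVars false
set_option linter.unusedVariables false
set_option linter.unusedSimpArgs false
set_option autoImplicit false
set_option linter.style.haveILetI false
set_option maxHeartbeats 400000

universe w v u v' u'

noncomputable section

namespace Groth.Agent.Helper6.Sib

open CategoryTheory CategoryTheory.Limits DerivedCategory CategoryTheory.Pretriangulated

variable {A : Type u} [Category.{v} A] [Abelian A] [HasDerivedCategory.{w} A]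

variable {D : Type u'} [Category.{v'} D] [Preadditive D] [HasZeroObject D] [HasShift D ℤ]
  [∀ n : ℤ, (shiftFunctor D n).Additive] [Pretriangulated D]

variable (F F' : DerivedCategory.Bounded A ⥤ D) [F.CommShift ℤ] [F'.CommShift ℤ]
  [F.IsTriangulated] [F'.IsTriangulated]
  (t : DEquiv.singleB A ⋙ F ≅ DEquiv.singleB A ⋙ F') [F.Full] [F.Faithful]

include t in
/-- bijectivity between arbitrary singles -/
theorem bij_singles {d d' : ℤ} {Z Z' : DerivedCategory.Bounded A} (r : SingRep d Z)
    (r' : SingRep d' Z') : Bij F' Z Z' := by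
  by_cases h : d < d'
  · exact bij_lt F F' t r r' h
  · have h1 : Bij F' ((DEquiv.singleB A).obj r.Y) (Z'⟦-(-d)⟧) :=
      bij_single_source F F' t (d - d').toNat (d' - d) (by lia) r.Y _
        (r'.shift (-(-d)) (d' - d) (by lia))
    exact (Bij.of_shift_target (-d) h1).of_iso r.iso.symm (Iso.refl _)

include t in
/-- bijectivity from a single to an arbitrary object -/
theorem bij_single_left : ∀ (k : ℕ) (a b : ℤ) (L : DerivedCategory.Bounded A),
    L.obj.IsGE a → L.obj.IsLE b → b - a ≤ k →
    ∀ (d : ℤ) (K : DerivedCategory.Bounded A) (_ : SingRep d K), Bij F' K L := by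
  have base : ∀ (a b : ℤ) (L : DerivedCategory.Bounded A), L.obj.IsGE a → L.obj.IsLE b → b ≤ a →
      ∀ (d : ℤ) (K : DerivedCategory.Bounded A) (_ : SingRep d K), Bij F' K L := by
    intro a b L ha hb hab d K r
    haveI : L.obj.IsGE b := TStructure.t.isGE_of_ge L.obj b a hab
    obtain ⟨r₀⟩ := exists_singRep L b
    exact bij_singles F F' t r r₀
  intro k
  induction k with
  | zero =>
    intro a b L ha hb hk
    exact base a b L ha hb (by lia)
  | succ k ih =>
    intro a b L ha hb hk d K r
    by_cases hab : b ≤ a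
    · exact base a b L ha hb hab d K r
    · obtain ⟨Z, rZ, ξ, L', η, δ, hT, hL1, hL2⟩ := exists_devissage L a b (by lia)
      exact Bij.of_triangle_right _ hT K (bij_singles F F' t r rZ)
        (ih a (b - 1) L' hL1 hL2 (by lia) d K r)
        (bij_singles F F' t r (rZ.shift 1 (b - 1) (by lia)))
        (Bij.of_shift_source (-1) (ih a (b - 1) L' hL1 hL2 (by lia) (d - 1) _
          (r.shift (-(-1)) (d - 1) (by lia))))

include t in
/-- bijectivity for arbitrary objects -/
theorem bij_all : ∀ (k : ℕ) (a b : ℤ) (K : DerivedCategory.Bounded A),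
    K.obj.IsGE a → K.obj.IsLE b → b - a ≤ k →
    ∀ (L : DerivedCategory.Bounded A), Bij F' K L := by
  have single : ∀ (d : ℤ) (K : DerivedCategory.Bounded A) (_ : SingRep d K)
      (L : DerivedCategory.Bounded A), Bij F' K L := by
    intro d K r L
    obtain ⟨⟨a, ha⟩, ⟨b, hb⟩⟩ := L.property
    exact bij_single_left F F' t (b - a).toNat a b L ha hb (by lia) d K r
  have base : ∀ (a b : ℤ) (K : DerivedCategory.Bounded A), K.obj.IsGE a → K.obj.IsLE b → b ≤ a →
      ∀ (L : DerivedCategory.Bounded A), Bij F' K L := by
    intro a b K ha hb hab L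
    haveI : K.obj.IsGE b := TStructure.t.isGE_of_ge K.obj b a hab
    obtain ⟨r₀⟩ := exists_singRep K b
    exact single b K r₀ L
  intro k
  induction k with
  | zero =>
    intro a b K ha hb hk
    exact base a b K ha hb (by lia)
  | succ k ih =>
    intro a b K ha hb hk L
    by_cases hab : b ≤ a
    · exact base a b K ha hb hab L
    · obtain ⟨Z, rZ, ξ, K', η, δ, hT, hK1, hK2⟩ := exists_devissage K a b (by lia)
      exact Bij.of_triangle_left _ hT L (single b Z rZ L)
        (ih a (b - 1) K' hK1 hK2 (by lia) L)
        (single (b - 1) _ (rZ.shift 1 (b - 1) (by lia)) L)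
        (Bij.of_shift_target (-1) (ih a (b - 1) K' hK1 hK2 (by lia) _))

include t in
/-- a sibling of a fully faithful functor is fully faithful -/
theorem full_faithful_of_sibling : F'.Full ∧ F'.Faithful := by
  have key : ∀ K L : DerivedCategory.Bounded A, Bij F' K L := by
    intro K L
    obtain ⟨⟨a, ha⟩, ⟨b, hb⟩⟩ := K.property
    exact bij_all F F' t (b - a).toNat a b K ha hb (by lia) L
  exact ⟨⟨fun {K L} => (key K L).2⟩, ⟨fun {K L} => (key K L).1⟩⟩

end Groth.Agent.Helper6.Sib
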