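import Mathlib
import Groth.Agent.Lib.Helper6.Sib.Vanish

set_option linter.unusedSectionVars false
set_option linter.unusedVariables false
set_option linter.unusedSimpArgs false
set_option autoImplicit false
set_option linter.style.haveILetI false
set_option maxHeartbeats 400000

universe w v u v' u'

noncomputable section

namespace Groth.Agent.Helper6.Sib

open CategoryTheory CategoryTheory.Limits DerivedCategory CategoryTheory.Pretriangulated

variable {A : Type u} [Category.{v} A] [Abelian A] [HasDerivedCategory.{w} A]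

variable {D : Type u'} [Category.{v'} D] [Preadditive D] [HasZeroObject D] [HasShift D ℤ]
  [∀ n : ℤ, (shiftFunctor D n).Additive] [Pretriangulated D]

variable (F F' : DerivedCategory.Bounded A ⥤ D) [F.CommShift ℤ] [F'.CommShift ℤ]
  [F.IsTriangulated] [F'.IsTriangulated]
  (t : DEquiv.singleB A ⋙ F ≅ DEquiv.singleB A ⋙ F')
  (h2 : ∀ (X Y : A) (q : ℤ), q < 0 →
      ∀ f : F.obj ((DEquiv.singleB A).obj X) ⟶ (shiftFunctor D q).obj (F.obj ((DEquiv.singleB A).obj Y)),
        f = 0)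

include h2 t in
theorem exists_iso_aux : ∀ (k : ℕ) (a b : ℤ) (K : DerivedCategory.Bounded A),
    K.obj.IsGE a → K.obj.IsLE b → b - a ≤ k →
    ∃ (Z : DerivedCategory.Bounded A) (r : SingRep b Z) (ξ : Z ⟶ K) (s : F.obj K ≅ F'.obj K),
      F.map ξ ≫ s.hom = (r.tIso F F' t).hom ≫ F'.map ξ ∧
      ∀ (d : ℤ) (_ : b ≤ d) (Z' : DerivedCategory.Bounded A) (_ : SingRep d Z')
        (φ : F.obj K ⟶ F'.obj Z'), F.map ξ ≫ φ = 0 → φ = 0 := by
  have base : ∀ (a b : ℤ) (K : DerivedCategory.Bounded A), K.obj.IsGE a → K.obj.IsLE b → b ≤ a →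
      ∃ (Z : DerivedCategory.Bounded A) (r : SingRep b Z) (ξ : Z ⟶ K) (s : F.obj K ≅ F'.obj K),
        F.map ξ ≫ s.hom = (r.tIso F F' t).hom ≫ F'.map ξ ∧
        ∀ (d : ℤ) (_ : b ≤ d) (Z' : DerivedCategory.Bounded A) (_ : SingRep d Z')
          (φ : F.obj K ⟶ F'.obj Z'), F.map ξ ≫ φ = 0 → φ = 0 := by
    intro a b K ha hb hab
    haveI : K.obj.IsGE b := TStructure.t.isGE_of_ge K.obj b a hab
    obtain ⟨r₀⟩ := exists_singRep K b
    refine ⟨K, r₀, 𝟙 K, r₀.tIso F F' t, ?_, ?_⟩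
    · rw [F.map_id, F'.map_id, Category.id_comp, Category.comp_id]
    · intro d hd Z' r' φ hφ
      rwa [F.map_id, Category.id_comp] at hφ
  intro k
  induction k with
  | zero =>
    intro a b K ha hb hk
    exact base a b K ha hb (by lia)
  | succ k ih =>
    intro a b K ha hb hk
    by_cases hab : b ≤ a
    · exact base a b K ha hb hab
    · obtain ⟨Z, r, ξ, L, η, δ, hT, hL1, hL2⟩ := exists_devissage K a b (by lia)
      obtain ⟨Z₁, r₁, ξ₁, sL, hc₁, hinj₁⟩ := ih a (b - 1) L hL1 hL2 (by lia)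
      let r' : SingRep (b - 1) (Z⟦(1 : ℤ)⟧) := r.shift 1 (b - 1) (by lia)
      have hsq : F.map δ ≫ (r'.tIso F F' t).hom = sL.hom ≫ F'.map δ := by
        rw [← sub_eq_zero]
        apply hinj₁ (b - 1) le_rfl _ r'
        rw [Preadditive.comp_sub, sub_eq_zero, ← F.map_comp_assoc,
          SingRep.t_natural r₁ r' (ξ₁ ≫ δ), reassoc_of% hc₁, F'.map_comp]
      have hFT := F.map_distinguished _ hT
      have hF'T := F'.map_distinguished _ hT
      have hcomm : (F.mapTriangle.obj (Triangle.mk ξ η δ)).mor₃ ≫ ((r.tIso F F' t).hom)⟦(1 : ℤ)⟧' =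
          sL.hom ≫ (F'.mapTriangle.obj (Triangle.mk ξ η δ)).mor₃ := by
        have h3 := SingRep.tIso_shift (F := F) (F' := F') (t := t) r 1 (b - 1) (by lia)
        change (F.map δ ≫ (F.commShiftIso (1 : ℤ)).hom.app Z) ≫ ((r.tIso F F' t).hom)⟦(1 : ℤ)⟧' =
          sL.hom ≫ F'.map δ ≫ (F'.commShiftIso (1 : ℤ)).hom.app Z
        rw [← reassoc_of% hsq, h3]
        simp only [Category.assoc, Iso.inv_hom_id_app, Functor.comp_obj, Category.comp_id]
      obtain ⟨s₀, hs1, hs2⟩ := complete_distinguished_triangle_morphism₂ _ _ hFT hF'T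
        (r.tIso F F' t).hom sL.hom hcomm
      let Φ : F.mapTriangle.obj (Triangle.mk ξ η δ) ⟶ F'.mapTriangle.obj (Triangle.mk ξ η δ) :=
        { hom₁ := (r.tIso F F' t).hom
          hom₂ := s₀
          hom₃ := sL.hom
          comm₁ := hs1
          comm₂ := hs2
          comm₃ := hcomm }
      haveI : @IsIso D _ (F.obj K) (F'.obj K) s₀ := isIso₂_of_isIso₁₃ Φ hFT hF'T
        (inferInstanceAs (IsIso (r.tIso F F' t).hom)) (inferInstanceAs (IsIso sL.hom))
      refine ⟨Z, r, ξ, @asIso D _ (F.obj K) (F'.obj K) s₀ _, hs1, ?_⟩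
      intro d hd Z' rZ' φ hφ
      obtain ⟨ψ, hψ⟩ := Triangle.yoneda_exact₂ _ hFT φ hφ
      have hψ0 : ψ = 0 :=
        hom_eq_zero_of_isLE F F' t h2 (b - 1 - a).toNat a (b - 1) L hL1 hL2 (by lia) d (by lia)
          Z' rZ' ψ
      rw [hψ, hψ0]
      exact comp_zero

include h2 t in
/-- `F K ≅ F' K` for all bounded objects -/
theorem exists_iso (K : DerivedCategory.Bounded A) : Nonempty (F.obj K ≅ F'.obj K) := by
  obtain ⟨⟨a, ha⟩, ⟨b, hb⟩⟩ := K.property
  obtain ⟨Z, r, ξ, s, -, -⟩ := exists_iso_aux F F' t h2 (b - a).toNat a b K ha hb (by lia)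
  exact ⟨s⟩

end Groth.Agent.Helper6.Sib
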